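import Groth.Agent.Lib.TensorMod.LocFree
import Groth.Prelude.Def_KZero

/-!
# Classes of finite sums in `K₀` of locally free modules
-/

set_option autoImplicit false
set_option linter.style.haveILetI false
universe u

open CategoryTheory CategoryTheory.Limits AlgebraicGeometry

noncomputable section

namespace Groth.Agent.Lib.SBTaut.KGen

open Groth.Agent.Lib

variable {X : Scheme.{u}}

local notation "P" => (fun M : X.Modules => FlatMod.IsFinLocFree M)

theorem clSub_add {S : ShortComplex X.Modules} (hS : S.ShortExact) (h₁ : FlatMod.IsFinLocFree S.X₁)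
    (h₂ : FlatMod.IsFinLocFree S.X₂) (h₃ : FlatMod.IsFinLocFree S.X₃) :
    KZero.clSub P S.X₂ = KZero.clSub P S.X₁ + KZero.clSub P S.X₃ := by
  rw [KZero.clSub, KZero.clSub, KZero.clSub, dif_pos h₁, dif_pos h₂, dif_pos h₃, ← sub_eq_zero,
    ← sub_sub, ← QuotientAddGroup.mk_sub, ← QuotientAddGroup.mk_sub, QuotientAddGroup.eq_zero_iff]
  exact AddSubgroup.subset_closure ⟨S, h₁, h₂, h₃, hS, rfl⟩

theorem isFinLocFree_zero {Z : X.Modules} (hZ : IsZero Z) : FlatMod.IsFinLocFree Z := by
  have h0 : IsZero (FlatMod.freeMod X 0) := by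
    rw [IsZero.iff_id_eq_zero]
    exact Sigma.hom_ext _ _ fun i => i.elim0
  exact TensorMod.LocFree.of_iso (h0.iso hZ)
    (TensorMod.LocFree.of_rank (TensorMod.LocFree.isFinLocFree_freeMod X 0))

theorem clSub_zero {Z : X.Modules} (hZ : IsZero Z) : KZero.clSub P Z = 0 := by
  have hS : (ShortComplex.mk (𝟙 Z) (𝟙 Z) (hZ.eq_of_src _ _)).ShortExact :=
    ShortComplex.ShortExact.mk' (ShortComplex.exact_of_isZero_X₂ _ hZ) inferInstance inferInstance
  have h := clSub_add hS (isFinLocFree_zero hZ) (isFinLocFree_zero hZ) (isFinLocFree_zero hZ)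
  exact left_eq_add.mp h

theorem clSub_iso {F G : X.Modules} (e : F ≅ G) (hF : FlatMod.IsFinLocFree F) :
    KZero.clSub P F = KZero.clSub P G := by
  have hG := TensorMod.LocFree.of_iso e hF
  let Z : X.Modules := cokernel (𝟙 F)
  have hZ : IsZero Z := isZero_cokernel_of_epi _
  have hS : (ShortComplex.mk e.hom (0 : G ⟶ Z) comp_zero).ShortExact := by
    haveI : Epi (0 : G ⟶ Z) := ⟨fun _ _ _ => hZ.eq_of_src _ _⟩
    refine ShortComplex.ShortExact.mk' ?_ inferInstance inferInstance
    exact (ShortComplex.exact_iff_epi _ rfl).2 inferInstance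
  have h := clSub_add hS hF hG (isFinLocFree_zero hZ)
  rw [clSub_zero hZ, add_zero] at h
  exact h.symm

/-- A finite sum of locally free modules is locally free, with class in any subgroup containing
theirs. -/
theorem mem_sigma (H : AddSubgroup (KZero.K0sub P)) : ∀ {m : ℕ} (f : Fin m → X.Modules),
    (∀ i, FlatMod.IsFinLocFree (f i) ∧ KZero.clSub P (f i) ∈ H) →
      FlatMod.IsFinLocFree (∐ f) ∧ KZero.clSub P (∐ f) ∈ H
  | 0, f, _ => by
    have hZ : IsZero (∐ f) := by
      rw [IsZero.iff_id_eq_zero]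
      exact Sigma.hom_ext _ _ fun i => i.elim0
    exact ⟨isFinLocFree_zero hZ, (clSub_zero hZ).symm ▸ zero_mem _⟩
  | m + 1, f, hf => by
    obtain ⟨ih1, ih2⟩ := mem_sigma H (fun i : Fin m => f i.succ) fun i => hf i.succ
    let e : f 0 ⊞ (∐ fun i : Fin m => f i.succ) ≅ ∐ f :=
      { hom := biprod.desc (Sigma.ι f 0) (Sigma.desc fun i : Fin m => Sigma.ι f i.succ)
        inv := Sigma.desc (Fin.cases biprod.inl
          fun i : Fin m => Sigma.ι (fun i : Fin m => f i.succ) i ≫ biprod.inr)
        hom_inv_id := by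
          refine biprod.hom_ext' _ _ ?_ (Sigma.hom_ext _ _ fun i => ?_)
          · simp
          · simp
        inv_hom_id := by
          refine Sigma.hom_ext _ _ fun i => ?_
          refine Fin.cases ?_ (fun j => ?_) i
          · simp
          · simp }
    have hb : FlatMod.IsFinLocFree (f 0 ⊞ ∐ fun i : Fin m => f i.succ) :=
      TensorMod.LocFree.of_iso (biprod.isoCoprod _ _).symm
        (TensorMod.LocFree.isFinLocFree_biprod (hf 0).1 ih1)
    refine ⟨TensorMod.LocFree.of_iso e hb, ?_⟩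
    rw [← clSub_iso e hb]
    have hS : (ShortComplex.mk (biprod.inl : f 0 ⟶ f 0 ⊞ ∐ fun i : Fin m => f i.succ) biprod.snd
        biprod.inl_snd).ShortExact := (ShortComplex.Splitting.ofHasBinaryBiproduct _ _).shortExact
    rw [clSub_add hS (hf 0).1 hb ih1]
    exact add_mem (hf 0).2 ih2

end Groth.Agent.Lib.SBTaut.KGen
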