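import Groth.Agent.Lib.SBTaut.Horrocks
import Groth.Agent.Lib.SBTaut.KGen.K0
import Groth.Agent.Lib.ArtinFun.HomFinite
import Groth.Agent.Lib.Flat55.FlatFunSheaf
import Groth.Agent.Lib.FibreDeg.Basic
import Groth.Agent.Lib.Perfect.Top
import Groth.Agent.Lib.KVec.Pull
import Groth.Agent.Lib.ProjKoszul.Regularity
import Groth.Agent.S0844

/-!
# Covers by bundles of negative type
-/

set_option autoImplicit false
set_option linter.style.haveILetI false
universe u

open CategoryTheory CategoryTheory.Limits AlgebraicGeometry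

noncomputable section

namespace Groth.Agent.Lib.SBTaut.KGen

open Groth.Agent.Lib Horrocks ProjCoh.Coherent CohDelta
open Groth.Agent.Lib.TensorMod.Basic Groth.Agent.Lib.ProjCoh.Sections

/-- Pullback along an isomorphism is an equivalence. -/
def pullbackEquiv {Y Z : Scheme.{u}} (i : Y ≅ Z) : Z.Modules ≌ Y.Modules :=
  CategoryTheory.Equivalence.mk (Scheme.Modules.pullback i.hom) (Scheme.Modules.pullback i.inv)
    ((Scheme.Modules.pullbackId Z).symm ≪≫ (Scheme.Modules.pullbackCongr i.inv_hom_id).symm ≪≫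
      (Scheme.Modules.pullbackComp i.inv i.hom).symm)
    ((Scheme.Modules.pullbackComp i.hom i.inv) ≪≫ Scheme.Modules.pullbackCongr i.hom_inv_id ≪≫
      Scheme.Modules.pullbackId Y)

variable {k : Type u} [Field k] {X : Scheme.{u}} (f : X ⟶ Spec (CommRingCat.of k)) [IsProper f]
  {K : Type u} [Field K] [Algebra k K] {N : ℕ} (e : BrSev.Splitting f K N)

local notation "pb" => Scheme.Modules.pullback (toX f e)

omit [IsProper f] in
theorem flat_toX : Flat (toX f e) :=
  MorphismProperty.of_isPullback (isPullback_toX f e).flip (FibreDeg.Basic.flat_of_field _)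

omit [IsProper f] in
theorem surjective_toX : Surjective (toX f e) :=
  MorphismProperty.of_isPullback (isPullback_toX f e).flip
    (⟨fun _ => ⟨default, Subsingleton.elim _ _⟩⟩ :
      Surjective (Spec.map (CommRingCat.ofHom (algebraMap k K))))

/-- A family of types of degrees `≤ 0`: the vanishing it gives. -/
theorem subsingleton_tw {j : ℕ} {t : ℤ} {q : ℕ} (h₀ : ¬ (q = 0 ∧ 0 ≤ -(j : ℤ) + t))
    (hn : ¬ (q = N ∧ -(j : ℤ) + t ≤ -((N : ℤ) + 1))) :
    Subsingleton (Coh.HH (CohB1.ProjSpace N K) (tw N K (-(j : ℤ) + t)) q) :=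
  Groth.Agent.S0844.result K N (-(j : ℤ) + t) q h₀ hn

variable (H : AddSubgroup (KZero.K0sub (fun M : X.Modules => FlatMod.IsFinLocFree M)))

/-- `H` contains bundles of every type `O(-j)`. -/
def HasTypes : Prop :=
  ∀ j : ℕ, ∃ (W : X.Modules) (r : ℕ), FlatMod.IsFinLocFree W ∧ 0 < r ∧
    BrSev.IsTwPow e (-(j : ℤ)) r W ∧ KZero.clSub (fun M : X.Modules => FlatMod.IsFinLocFree M) W ∈ H

/-- A morphism from the pullback of `W` to that of `E` factors through a cover of `E`. -/
theorem factor_pullback {W E F : X.Modules} (hW : Coh.IsCoh W) [E.IsQuasicoherent] (φ : F ⟶ E)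
    (hφ : ∀ h : W ⟶ E, ∃ ψ : W ⟶ F, h = ψ ≫ φ) (h' : (pb).obj W ⟶ (pb).obj E) :
    ∃ s : (pb).obj W ⟶ (pb).obj F, h' = s ≫ (pb).map φ := by
  classical
  haveI : CompactSpace X := QuasiCompact.compactSpace_of_compactSpace f
  let q := Scheme.Modules.pullback e.iso.inv
  haveI : q.IsEquivalence := (pullbackEquiv e.iso).isEquivalence_inverse
  let c := Scheme.Modules.pullbackComp e.iso.inv (BrSev.proj f K)
  let g := q.preimage ((c.app W).hom ≫ h' ≫ (c.app E).inv)
  obtain ⟨T, hh, hg⟩ := KBC.exists_sum f K (Module.Basis.ofVectorSpace k K) hW g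
  choose ψ hψ using fun i => hφ (hh i)
  have hs : ∃ s : BrSev.bcMod f K W ⟶ BrSev.bcMod f K F,
      g = s ≫ (Scheme.Modules.pullback (BrSev.proj f K)).map φ := by
    refine ⟨∑ i ∈ T, Module.Basis.ofVectorSpace k K i • KBC.pbMap f K (ψ i), hg.trans ?_⟩
    rw [Preadditive.sum_comp]
    refine Finset.sum_congr rfl fun i _ => ?_
    refine Eq.trans ?_ (Linear.smul_comp _ _ _ _ _ _).symm
    refine congrArg (Module.Basis.ofVectorSpace k K i • ·) ?_
    show (Scheme.Modules.pullback (BrSev.proj f K)).map (hh i) = _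
    rw [hψ i, Functor.map_comp]
  obtain ⟨s, hs⟩ := hs
  refine ⟨(c.app W).inv ≫ q.map s ≫ (c.app F).hom, ?_⟩
  have h1 : q.map g = (c.app W).hom ≫ h' ≫ (c.app E).inv := q.map_preimage _
  rw [hs, Functor.map_comp] at h1
  have h2 : h' = (c.app W).inv ≫ (q.map s ≫ q.map ((Scheme.Modules.pullback (BrSev.proj f K)).map φ)) ≫
      (c.app E).hom := by
    rw [h1]
    simp
  refine h2.trans ?_
  simp only [Category.assoc]
  refine congrArg ((c.app W).inv ≫ ·) (congrArg (q.map s ≫ ·) ?_)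
  exact c.hom.naturality φ

/-- A cover by bundles of types `O(-j)`, `j ≤ T`, through which the maps from these types factor. -/
theorem exists_cover (hH : HasTypes f e H) {E : X.Modules} (hE : FlatMod.IsFinLocFree E) (T : ℕ) :
    ∃ (F : X.Modules) (φ : F ⟶ E), FlatMod.IsFinLocFree F ∧
      KZero.clSub (fun M : X.Modules => FlatMod.IsFinLocFree M) F ∈ H ∧
      (∀ (q : ℕ) (t : ℤ), (∀ j : ℕ, j ≤ T →
          Subsingleton (Coh.HH (CohB1.ProjSpace N K) (tw N K (-(j : ℤ) + t)) q)) →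
        Subsingleton (Coh.HH (CohB1.ProjSpace N K) (CohB1.tensorMod ((pb).obj F) (tw N K t)) q)) ∧
      ∀ j : ℕ, j ≤ T → ∀ h : tw N K (-(j : ℤ)) ⟶ (pb).obj E,
        ∃ s : tw N K (-(j : ℤ)) ⟶ (pb).obj F, h = s ≫ (pb).map φ := by
  classical
  letI : X.Over (Spec (CommRingCat.of k)) := ⟨f⟩
  haveI : IsProper (X ↘ Spec (CommRingCat.of k)) := ‹IsProper f›
  haveI : IsLocallyNoetherian X := LocallyOfFiniteType.isLocallyNoetherian f
  have hEc := Perfect.Coherent.isCoh_of_isFinLocFree hE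
  haveI := hEc.1
  choose W r hW hr hWt hWH using hH
  have hfin : ∀ j, Module.Finite k (W j ⟶ E) := fun j =>
    ArtinFun.HomFinite.finite_hom (Perfect.Coherent.isCoh_of_isFinLocFree (hW j)) hEc
  choose d g hg using fun j => @Module.Finite.exists_fin k (W j ⟶ E) _ _ _ (hfin j)
  let κ := Σ j : Fin (T + 1), Fin (d j)
  let ε : Fin (Fintype.card κ) ≃ κ := (Fintype.equivFin κ).symm
  let fW : Fin (Fintype.card κ) → X.Modules := fun i => W (ε i).1
  let φ : ∐ fW ⟶ E := Sigma.desc fun i => g _ (ε i).2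
  obtain ⟨hF, hFH⟩ := mem_sigma H fW fun i => ⟨hW _, hWH _⟩
  refine ⟨∐ fW, φ, hF, hFH, fun q t hv => ?_, fun j hj h => ?_⟩
  · haveI : PreservesColimitsOfSize.{0, 0} (pb) := preservesSmallestColimits_of_preservesColimits _
    haveI := TensorMod.LocFree.preservesFinCoproducts (tensorBy (tw N K t)) (Fin (Fintype.card κ))
    refine ProjKoszul.Chase.subsingleton_of_iso K
      (((tensorBy (tw N K t)).mapIso (PreservesCoproduct.iso (pb) fW)) ≪≫
        PreservesCoproduct.iso (tensorBy (tw N K t)) (fun i => (pb).obj (fW i))).symm ?_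
    refine ProjCoh.Horrocks.subsingleton_HH_sigma K _ q fun i => ?_
    obtain ⟨iW⟩ := type_toX f e (hWt (ε i).1)
    haveI := TensorMod.LocFree.preservesFinCoproducts (tensorBy (tw N K t)) (Fin (r (ε i).1))
    refine ProjKoszul.Chase.subsingleton_of_iso K
      (((tensorBy (tw N K t)).mapIso iW) ≪≫
        PreservesCoproduct.iso (tensorBy (tw N K t)) (fun _ : Fin (r (ε i).1) => tw N K (-((ε i).1 : ℕ) : ℤ)) ≪≫
        Sigma.mapIso fun _ => twTensor (-((ε i).1 : ℕ) : ℤ) t).symm ?_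
    exact ProjCoh.Horrocks.subsingleton_HH_sigma K _ q fun _ => hv _ (Nat.lt_succ_iff.mp (ε i).1.2)
  · obtain ⟨iW⟩ := type_toX f e (hWt j)
    have hX : ∀ h : W j ⟶ E, ∃ ψ : W j ⟶ ∐ fW, h = ψ ≫ φ := by
      intro h
      have hm : h ∈ Submodule.span k (Set.range (g j)) := (hg j).symm ▸ Submodule.mem_top
      induction hm using Submodule.span_induction with
      | mem v hv =>
        obtain ⟨a, rfl⟩ := hv
        obtain ⟨i, hi⟩ := ε.surjective ⟨⟨j, Nat.lt_succ_of_le hj⟩, a⟩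
        have key : ∀ p : κ, ε i = p → ∃ ψ : W p.1 ⟶ ∐ fW, g p.1 p.2 = ψ ≫ φ := by
          rintro p rfl
          exact ⟨Sigma.ι fW i, (Sigma.ι_desc (f := fW) (fun i => g _ (ε i).2) i).symm⟩
        exact key _ hi
      | zero => exact ⟨0, zero_comp.symm⟩
      | add x y _ _ hx hy =>
        obtain ⟨a, rfl⟩ := hx
        obtain ⟨b, rfl⟩ := hy
        exact ⟨a + b, (Preadditive.add_comp _ _ _ _ _ _).symm⟩
      | smul c x _ hx =>
        obtain ⟨a, rfl⟩ := hx
        exact ⟨c • a, (Linear.smul_comp _ _ _ _ _ _).symm⟩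
    obtain ⟨s, hs⟩ := factor_pullback f e (Perfect.Coherent.isCoh_of_isFinLocFree (hW j)) φ hX
      (iW.hom ≫ Sigma.desc fun _ => h)
    refine ⟨Sigma.ι (fun _ : Fin (r j) => tw N K (-(j : ℤ))) ⟨0, hr j⟩ ≫ iW.inv ≫ s, ?_⟩
    rw [Category.assoc, Category.assoc, ← hs, Iso.inv_hom_id_assoc, Sigma.ι_desc]

end Groth.Agent.Lib.SBTaut.KGen
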