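import Groth.Agent.Lib.SBTaut.KGen.Vanish
import Groth.Agent.Lib.SBTaut.Compare

/-!
# `K₀` of a Severi–Brauer variety is spanned by the bundles of negative type
-/

set_option autoImplicit false
set_option linter.style.haveILetI false
universe u

open CategoryTheory CategoryTheory.Limits AlgebraicGeometry

noncomputable section

namespace Groth.Agent.Lib.SBTaut.KGen

open Groth.Agent.Lib Horrocks ProjCoh.Coherent CohDelta
open Groth.Agent.Lib.TensorMod.Basic Groth.Agent.Lib.ProjCoh.Sections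

variable {k : Type u} [Field k] {X : Scheme.{u}} (f : X ⟶ Spec (CommRingCat.of k)) [IsProper f]
  {K : Type u} [Field K] [Algebra k K] [IsAlgClosure k K] {N : ℕ} (e : BrSev.Splitting f K N)
  (H : AddSubgroup (KZero.K0sub (fun M : X.Modules => FlatMod.IsFinLocFree M)))

local notation "pb" => Scheme.Modules.pullback (toX f e)

/-- `H` contains every indecomposable bundle of type `O(-j)`. -/
def HasInd : Prop :=
  ∀ (W : X.Modules) (j r : ℕ), FlatMod.IsFinLocFree W → KS.Ind W → 0 < r →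
    BrSev.IsTwPow e (-(j : ℤ)) r W → KZero.clSub (fun M : X.Modules => FlatMod.IsFinLocFree M) W ∈ H

theorem hasTypes_of_hasInd (hH : HasInd f e H) : HasTypes f e H := fun j => by
  obtain ⟨W, r, hW, hWi, hr, ht⟩ := SBTwist.exists_type f e (-(j : ℤ))
  exact ⟨W, r, hW, hr, ht, hH W j r hW hWi hr ht⟩

/-- An absolutely split bundle all whose types are `≤ 0` is in `H`. -/
theorem mem_of_split (hH : HasInd f e H) {E : X.Modules} (hE : FlatMod.IsFinLocFree E) {s : ℕ}
    {Ls : Fin s → (BrSev.bc f K).Modules} (hLs : ∀ i, PicF.IsInvertible (Ls i))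
    (ψ : BrSev.bcMod f K E ≅ ∐ Ls)
    (h : ∀ (S : X.Modules) (i : S ⟶ E) (π : E ⟶ S), i ≫ π = 𝟙 S → ∀ (j : ℤ) (r : ℕ), 0 < r →
      BrSev.IsTwPow e j r S → ∃ j' : ℕ, BrSev.IsTwPow e (-(j' : ℤ)) r S) :
    KZero.clSub (fun M : X.Modules => FlatMod.IsFinLocFree M) E ∈ H := by
  classical
  haveI : IsLocallyNoetherian X := LocallyOfFiniteType.isLocallyNoetherian f
  obtain ⟨l, hl, ⟨φ⟩⟩ := KBC.exists_decomp f E (Perfect.Coherent.isCoh_of_isFinLocFree hE)
  choose js rs hr hf ht using fun i : Fin l.length =>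
    SBTwist.type_of_summand f e hl hE φ Ls hLs ψ (l.get i) (List.get_mem l i)
  let φ' : E ≅ ∐ l.get := φ ≪≫ (KS.bsum_ext (List.ofFn_get l).symm).some ≪≫ (KS.bsum_ofFn l.get).some
  have hm := mem_sigma H l.get fun i => ⟨hf i, by
    let π : ∐ l.get ⟶ l.get i :=
      Sigma.desc fun a => if ha : a = i then eqToHom (congrArg l.get ha) else 0
    obtain ⟨j', hj'⟩ := h (l.get i) (Sigma.ι l.get i ≫ φ'.inv) (φ'.hom ≫ π) (by
      rw [Category.assoc, Iso.inv_hom_id_assoc, Sigma.ι_desc, dif_pos rfl, eqToHom_refl])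
      (js i) (rs i) (hr i) (ht i)
    exact hH _ j' (rs i) (hf i) (hl _ (List.get_mem l i)).1 (hr i) hj'⟩
  exact (clSub_iso φ' hE).symm ▸ hm.2

/-- The top step: a high syzygy is split of types `≤ 0`. -/
theorem mem_top (hH : HasInd f e H) (hN : 0 < N) {E : X.Modules} {m : ℕ} (hm : N ≤ m)
    (hE : Syz f e E m) : KZero.clSub (fun M : X.Modules => FlatMod.IsFinLocFree M) E ∈ H := by
  obtain ⟨hEl, hEq, hE0⟩ := hE
  have hF := TensorMod.LocFree.isFinLocFree_pullback (toX f e) hEl
  obtain ⟨s, a, ⟨i⟩⟩ := ProjCoh.Horrocks.exists_iso_sum hN _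
    ⟨Perfect.Coherent.isCoh_of_isFinLocFree hF, fun t q h1 h2 => hEq q t (by omega) (by omega) (by omega),
      ProjCoh.Horrocks.exists_h0_vanish hN _ hF⟩
  obtain ⟨ψ⟩ := split_of_toX f e a i
  refine mem_of_split f e H hH hEl (fun _ => SBTwist.isInvertible_twist f e _) ψ
    fun S ι π hιπ j r hr hS => ⟨(-j).toNat, ?_⟩
  suffices hj : j ≤ 0 by
    rwa [show (-(((-j).toNat : ℕ)) : ℤ) = j by omega]
  by_contra hj
  push Not at hj
  obtain ⟨iS⟩ := type_toX f e hS
  let ρ : (pb).obj S ⟶ tw N K j :=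
    iS.hom ≫ Sigma.desc fun b : Fin r => if b = ⟨0, hr⟩ then 𝟙 _ else 0
  have hret : ((Sigma.ι (fun _ : Fin r => tw N K j) ⟨0, hr⟩ ≫ iS.inv) ≫ (pb).map ι) ≫
      ((pb).map π ≫ ρ) = 𝟙 _ := by
    rw [Category.assoc, ← Functor.map_comp_assoc, hιπ, CategoryTheory.Functor.map_id, Category.id_comp,
      Category.assoc, Iso.inv_hom_id_assoc, Sigma.ι_desc, if_pos rfl]
  have hret' : (tensorBy (tw N K (-j))).map ((Sigma.ι (fun _ : Fin r => tw N K j) ⟨0, hr⟩ ≫ iS.inv) ≫ (pb).map ι) ≫
      (tensorBy (tw N K (-j))).map ((pb).map π ≫ ρ) = 𝟙 _ := by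
    rw [← Functor.map_comp, hret, CategoryTheory.Functor.map_id]
  have h1 := ProjCoh.Horrocks.subsingleton_of_retract K _ _ hret' 0 (hE0 (by omega) (-j) (by omega))
  refine ProjCoh.Horrocks.not_subsingleton_h0_tw (k := K) hN le_rfl
    (ProjKoszul.Chase.subsingleton_of_iso K
      ((twTensor (n := N) (R := K) j (-j)) ≪≫ eqToIso (congrArg (tw N K) (add_neg_cancel j))) h1)

/-- The resolution. -/
theorem mem_of_syz (hH : HasInd f e H) (hN : 0 < N) :
    ∀ (d m : ℕ) (E : X.Modules), m + d = N → Syz f e E m →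
      KZero.clSub (fun M : X.Modules => FlatMod.IsFinLocFree M) E ∈ H
  | 0, m, E, hm, hE => mem_top f e H hH hN (by omega) hE
  | d + 1, m, E, hm, hE => by
    obtain ⟨Z, F, hZ, heq, hFH⟩ := exists_step f e H (hasTypes_of_hasInd f e H hH) hN hE
    rw [heq]
    exact sub_mem hFH (mem_of_syz hH hN d (m + 1) Z (by omega) hZ)

include e in
/-- Every finite locally free module has class in `H`. -/
theorem mem_locFree (hH : HasInd f e H) {E : X.Modules} (hE : FlatMod.IsFinLocFree E) :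
    KZero.clSub (fun M : X.Modules => FlatMod.IsFinLocFree M) E ∈ H := by
  rcases Nat.eq_zero_or_pos N with hN | hN
  · subst hN
    haveI : IsAlgClosed K := IsAlgClosure.isAlgClosed k
    have hF := TensorMod.LocFree.isFinLocFree_pullback (toX f e) hE
    haveI := SBTwist.isIntegral_bc f e
    haveI : ConnectedSpace ↥(CohB1.ProjSpace 0 K) :=
      e.iso.hom.homeomorph.surjective.connectedSpace e.iso.hom.continuous
    obtain ⟨s, hs⟩ := KAugNil98.Main.exists_rank hF
    obtain ⟨i⟩ := ProjCoh.Horrocks.exists_iso_sum_zero hs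
    obtain ⟨ψ⟩ := split_of_toX f e (fun _ : Fin s => (0 : ℤ)) i
    refine mem_of_split f e H hH hE (fun _ => SBTwist.isInvertible_twist f e _) ψ
      fun S _ _ _ j r _ hS => ⟨0, ?_⟩
    obtain ⟨iS⟩ := hS
    obtain ⟨c⟩ := Compare.tw_iso_point (L := K) j (-((0 : ℕ) : ℤ))
    exact ⟨iS ≪≫ Sigma.mapIso fun _ => (Scheme.Modules.pullback e.iso.hom).mapIso c⟩
  · exact mem_of_syz f e H hH hN N 0 E (by omega) ⟨hE, fun q t h1 h2 => by omega, fun h => by omega⟩

include e in
/-- `K₀` is spanned by any set containing the classes of the negative types. -/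
theorem closure_eq_top {s : Set (KZero.K0sub (fun M : X.Modules => FlatMod.IsFinLocFree M))}
    (hH : HasInd f e (AddSubgroup.closure s)) : AddSubgroup.closure s = ⊤ := by
  refine top_le_iff.1 fun x _ => ?_
  obtain ⟨y, rfl⟩ := QuotientAddGroup.mk_surjective x
  induction y using FreeAbelianGroup.induction_on with
  | zero => exact zero_mem _
  | of a =>
    obtain ⟨M, hM⟩ := a
    have h := mem_locFree f e _ hH hM
    rwa [KZero.clSub, dif_pos hM] at h
  | neg a ha =>
    rw [QuotientAddGroup.mk_neg]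
    exact neg_mem (ha trivial)
  | add a b ha hb =>
    rw [QuotientAddGroup.mk_add]
    exact add_mem (ha trivial) (hb trivial)

end Groth.Agent.Lib.SBTaut.KGen
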