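import Groth.Agent.Lib.SBTaut.KGen.Cover

/-!
# One step of a resolution by bundles of negative type
-/

set_option autoImplicit false
set_option linter.style.haveILetI false
universe u

open CategoryTheory CategoryTheory.Limits AlgebraicGeometry

noncomputable section

namespace Groth.Agent.Lib.SBTaut.KGen

open Groth.Agent.Lib Horrocks ProjCoh.Coherent
open Groth.Agent.Lib.TensorMod.Basic Groth.Agent.Lib.ProjCoh.Sections

section LES

variable {K : Type u} [Field K] {X : Scheme.{u}} [X.Over (Spec (CommRingCat.of K))]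
  {S : ShortComplex X.Modules} (hS : S.ShortExact)

include K hS in
theorem sub₁_succ {q : ℕ} (h3 : Subsingleton (Coh.HH X S.X₃ q)) (h2 : Subsingleton (Coh.HH X S.X₂ (q + 1))) :
    Subsingleton (Coh.HH X S.X₁ (q + 1)) := by
  refine subsingleton_of_forall_eq 0 fun x => ?_
  obtain ⟨y, hy⟩ := ((Curves.LES.exactK₁ K hS q (q + 1) rfl) x).1 (Subsingleton.elim _ _)
  rw [← hy, Subsingleton.elim y 0, map_zero]

include K hS in
theorem sub₁_one (h3 : Function.Surjective (Curves.LES.mapK K S.g 0))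
    (h2 : Subsingleton (Coh.HH X S.X₂ 1)) : Subsingleton (Coh.HH X S.X₁ 1) := by
  refine subsingleton_of_forall_eq 0 fun x => ?_
  obtain ⟨y, hy⟩ := ((Curves.LES.exactK₁ K hS 0 1 rfl) x).1 (Subsingleton.elim _ _)
  obtain ⟨z, rfl⟩ := h3 y
  rw [← hy]
  exact ((Curves.LES.exactK₃ K hS 0 1 rfl) _).2 ⟨z, rfl⟩

include K hS in
theorem sub₁_zero (h2 : Subsingleton (Coh.HH X S.X₂ 0)) : Subsingleton (Coh.HH X S.X₁ 0) :=
  haveI := hS.mono_f
  (Curves.LES.mapK_injective_of_mono (A := K) S.f).subsingleton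

end LES

variable {K : Type u} [Field K] {N : ℕ}

/-- If the maps from `O` lift, so do the sections. -/
theorem surjective_mapK_of_lift {X : Scheme.{u}} [X.Over (Spec (CommRingCat.of K))] {A B : X.Modules}
    (φ : A ⟶ B) (h : ∀ s : Coh.structureModule X ⟶ B, ∃ s' : Coh.structureModule X ⟶ A, s' ≫ φ = s) :
    Function.Surjective (Curves.LES.mapK K φ 0) := by
  intro x
  obtain ⟨s', hs'⟩ := h (Modules.Free.unitHom B (Curves.GlobalSections.h0Equiv B x))
  refine ⟨(Curves.GlobalSections.h0Equiv A).symm (s'.app ⊤ (1 : Γ(X, ⊤))), ?_⟩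
  apply (Curves.GlobalSections.h0Equiv B).injective
  rw [ProjKoszul.Regularity.h0Equiv_mapK, AddEquiv.apply_symm_apply]
  exact (congr($(hs').app ⊤ (1 : Γ(X, ⊤)))).trans (Modules.Free.unitHom_app_one _ _)

/-- If maps from `O(-t)` factor through `φ`, sections lift after twisting by `t`. -/
theorem surjective_mapK {F G : (CohB1.ProjSpace N K).Modules} (φ : F ⟶ G) {t : ℤ}
    (h : ∀ h : tw N K (-t) ⟶ G, ∃ s : tw N K (-t) ⟶ F, h = s ≫ φ) :
    Function.Surjective (Curves.LES.mapK K ((tensorBy (tw N K t)).map φ) 0) := by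
  refine surjective_mapK_of_lift _ fun s => ?_
  let i0 : (tensorBy (tw N K t)).obj (tw N K (-t)) ≅ Coh.structureModule (CohB1.ProjSpace N K) :=
    twCancel (-t) t (by omega)
  obtain ⟨g, hg⟩ := h ((tensorBy (tw N K t)).preimage (i0.hom ≫ s))
  refine ⟨i0.inv ≫ (tensorBy (tw N K t)).map g, ?_⟩
  rw [Category.assoc, ← Functor.map_comp, ← hg, Functor.map_preimage, Iso.inv_hom_id_assoc]

variable {k : Type u} [Field k] {X : Scheme.{u}} (f : X ⟶ Spec (CommRingCat.of k)) [IsProper f]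
  [Algebra k K] (e : BrSev.Splitting f K N)
  (H : AddSubgroup (KZero.K0sub (fun M : X.Modules => FlatMod.IsFinLocFree M)))

local notation "pb" => Scheme.Modules.pullback (toX f e)

/-- `E` behaves like an `m`-th syzygy. -/
def Syz (E : X.Modules) (m : ℕ) : Prop :=
  FlatMod.IsFinLocFree E ∧
    (∀ (q : ℕ) (t : ℤ), 1 ≤ q → q < m → q < N →
      Subsingleton (Coh.HH (CohB1.ProjSpace N K) (CohB1.tensorMod ((pb).obj E) (tw N K t)) q)) ∧
    (1 ≤ m → ∀ t : ℤ, t < 0 →
      Subsingleton (Coh.HH (CohB1.ProjSpace N K) (CohB1.tensorMod ((pb).obj E) (tw N K t)) 0))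

/-- One step of the resolution. -/
theorem exists_step (hH : HasTypes f e H) (hN : 0 < N) {E : X.Modules} {m : ℕ} (hE : Syz f e E m) :
    ∃ (Z F : X.Modules), Syz f e Z (m + 1) ∧
      KZero.clSub (fun M : X.Modules => FlatMod.IsFinLocFree M) E =
        KZero.clSub (fun M : X.Modules => FlatMod.IsFinLocFree M) F -
          KZero.clSub (fun M : X.Modules => FlatMod.IsFinLocFree M) Z ∧
      KZero.clSub (fun M : X.Modules => FlatMod.IsFinLocFree M) F ∈ H := by
  obtain ⟨hEl, hEq, hE0⟩ := hE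
  have hPl := TensorMod.LocFree.isFinLocFree_pullback (toX f e) hEl
  have hPc := Perfect.Coherent.isCoh_of_isFinLocFree hPl
  obtain ⟨d₀, hd₀⟩ := ProjCoh.Coherent.exists_forall_subsingleton _ hPc
  obtain ⟨c, m₀, p, hp⟩ := ProjCoh.Coherent.exists_epi _ hPc
  let T : ℕ := max (d₀ + N) m₀
  obtain ⟨F, φ, hF, hFH, hFv, hfac⟩ := exists_cover f e H hH hEl T
  -- the cover is surjective
  haveI hepiP : Epi ((pb).map φ) := by
    choose s hs using fun i : Fin c => hfac m₀ (le_max_right _ _)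
      ((twIso (-(m₀ : ℤ))).hom ≫ Sigma.ι (fun _ : Fin c => ProjCoh.Sections.TS N K (-(m₀ : ℤ))) i ≫ p)
    haveI : Epi ((Sigma.desc fun i => (twIso (-(m₀ : ℤ))).inv ≫ s i) ≫ (pb).map φ) := by
      have : (Sigma.desc fun i => (twIso (-(m₀ : ℤ))).inv ≫ s i) ≫ (pb).map φ = p :=
        Sigma.hom_ext _ _ fun i => by
          rw [Sigma.ι_desc_assoc, Category.assoc, ← hs, Iso.inv_hom_id_assoc]
      rw [this]
      exact hp
    exact epi_of_epi (Sigma.desc fun i => (twIso (-(m₀ : ℤ))).inv ≫ s i) _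
  haveI hepi : Epi φ := Flat55.FlatFunSheaf.epi_of_pullback (fun _ : PUnit.{1} => toX f e)
    (fun _ => flat_toX f e) (fun x => by
      haveI := surjective_toX f e
      obtain ⟨x', hx'⟩ := (toX f e).surjective x
      exact ⟨⟨⟩, x', hx'⟩) φ (fun _ => hepiP)
  let S : ShortComplex X.Modules := ShortComplex.mk (kernel.ι φ) φ (kernel.condition φ)
  have hS : S.ShortExact :=
    ShortComplex.ShortExact.mk' (ShortComplex.exact_kernel φ) inferInstance hepi
  have hZ : FlatMod.IsFinLocFree (kernel φ) := Perfect.Top.isFinLocFree_kernel φ hF hEl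
  have hSP := KVec.Pull.shortExact_pullback (toX f e) hS hEl
  have hT := fun t : ℤ => shortExact_tw hSP t
  have hZc := Perfect.Coherent.isCoh_of_isFinLocFree
    (TensorMod.LocFree.isFinLocFree_pullback (toX f e) hZ)
  have vF : ∀ (q : ℕ) (t : ℤ), (∀ j : ℕ, j ≤ T → ¬ (q = 0 ∧ 0 ≤ -(j : ℤ) + t) ∧
      ¬ (q = N ∧ -(j : ℤ) + t ≤ -((N : ℤ) + 1))) →
      Subsingleton (Coh.HH (CohB1.ProjSpace N K) (CohB1.tensorMod ((pb).obj F) (tw N K t)) q) :=
    fun q t h => hFv q t fun j hj => subsingleton_tw (h j hj).1 (h j hj).2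
  have hsurj : ∀ t : ℕ, t ≤ T → Function.Surjective
      (Curves.LES.mapK K ((tensorBy (tw N K (t : ℤ))).map ((pb).map φ)) 0) :=
    fun t ht => surjective_mapK _ (hfac t ht)
  -- regularity of the kernel
  have hreg : ProjKoszul.Regularity.Reg ((pb).obj (kernel φ)) ((T : ℤ) + 1) := by
    intro i hi
    haveI : Coh.IsQCoh (CohB1.tensorMod ((pb).obj (kernel φ)) (tw N K ((T : ℤ) + 1 - i))) :=
      (ProjCoh.Coherent.isCoh_tensorMod hZc (isCoh_tw _)).1
    rcases Nat.lt_or_ge N i with hlt | hle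
    · exact ProjCoh.Twist.subsingleton_HH_of_lt _ hlt
    obtain ⟨l, rfl⟩ := Nat.exists_eq_add_of_le' hi
    have hF1 : Subsingleton (Coh.HH (CohB1.ProjSpace N K)
        (CohB1.tensorMod ((pb).obj F) (tw N K ((T : ℤ) + 1 - ((l + 1 : ℕ) : ℤ)))) (l + 1)) :=
      vF _ _ fun j hj => ⟨by omega, by omega⟩
    rcases Nat.eq_zero_or_pos l with rfl | hl
    · refine sub₁_one (K := K) (hT _) ?_ hF1
      have hTeq : (T : ℤ) + 1 - ((0 + 1 : ℕ) : ℤ) = (T : ℤ) := by omega
      rw [hTeq]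
      exact hsurj T le_rfl
    · obtain ⟨l', rfl⟩ : ∃ l', l = l' + 1 := ⟨l - 1, by omega⟩
      exact sub₁_succ (K := K) (hT _) (hd₀ _ (by omega) l') hF1
  refine ⟨kernel φ, F, ⟨hZ, fun q t h1 h2 h3 => ?_, fun _ t ht => ?_⟩, ?_, hFH⟩
  · rcases Nat.lt_or_ge 1 q with hq | hq
    · obtain ⟨q', rfl⟩ : ∃ q', q = q' + 1 := ⟨q - 1, by omega⟩
      exact sub₁_succ (K := K) (hT t) (hEq q' t (by omega) (by omega) (by omega))
        (vF _ t fun j hj => ⟨by omega, by omega⟩)
    · obtain rfl : q = 1 := by omega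
      rcases le_or_gt (T : ℤ) t with hTt | htT
      · exact ProjKoszul.Regularity.subsingleton_of_le hreg le_rfl (by omega)
      refine sub₁_one (K := K) (hT t) ?_ (vF _ t fun j hj => ⟨by omega, by omega⟩)
      rcases le_or_gt (0 : ℤ) t with ht | ht
      · lift t to ℕ using ht
        exact hsurj t (by omega)
      · haveI := hE0 (by omega) t ht
        exact fun y => ⟨0, @Subsingleton.elim _ this _ _⟩
  · exact sub₁_zero (K := K) (hT t) (vF _ t fun j hj => ⟨by omega, by omega⟩)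
  · exact eq_sub_of_add_eq' (clSub_add hS hZ hF hEl).symm

end Groth.Agent.Lib.SBTaut.KGen
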